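import Cfsg.Agent.INV.BU.Su

/-!
# BU/St1 : the first step `R₁ = V1 E` of the tower above `B = V E`.  (Port of STD2/St1.)
-/

set_option autoImplicit false
open Cfsg Subgroup CL.MSS CL.PComp CL.Gold CL.SqField CL.St2
open scoped commutatorElement

namespace CL.St3

universe u

variable {F : Type} [Field F] [Fintype F] [CharP F 2] {q : ℕ} {hF : Fintype.card F = q ^ 2}
  {G : Type u} [Group G] [Finite G]

namespace Su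

variable (Γ : Su hF G)

/-- `g ∈ N(B) ≤ N(S)` (`normS`) acts as `c ψ`.  Take `k ≠ 1`, `k' = ψ k`, `m = g δ(k) g⁻¹ δ(k')⁻¹`.
It is `TW` and trivial on `B / V`.  If `m` centralized `e ∈ E#` then `g δ(k) g⁻¹ ∈ C` would centralize
`E`, but `C_B(g δ(k) g⁻¹) = g E g⁻¹` (`mem_E_of_δ`). -/
theorem exists_trans {g : G} (hg : g ∈ normalizer (Γ.B : Set G))
    (hE : g ∉ normalizer (Γ.E : Set G)) :
    ∃ m, Γ.TW m ∧ (∀ e ∈ Γ.E, m * e * m⁻¹ * e ∈ Γ.V) ∧ m ∉ Γ.C := by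
  have hS : g ∈ normalizer (Γ.S : Set G) := Γ.normS le_rfl Γ.B_le_cen hg
  obtain ⟨c, ψ, h⟩ := Γ.exists_act hS
  obtain ⟨k, hk⟩ := Γ.exists_ne_one
  obtain ⟨φ, hφ⟩ := exists_res (hF := hF) ψ
  obtain ⟨k', hk'⟩ : ∃ k', k' = Units.map φ.toMonoidHom k := ⟨_, rfl⟩
  have hD := Γ.D_le_normalizer
  have hδ : ∀ (k : (K hF)ˣ), ∀ e ∈ Γ.E, e * Γ.δ k = Γ.δ k * e := fun k e he =>
    Γ.E_comm he (Γ.AC (Γ.D_le_A ⟨k, rfl⟩))
  refine ⟨g * Γ.δ k * g⁻¹ * (Γ.δ k')⁻¹, ?_, fun e he => ?_, fun hm => ?_⟩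
  · obtain ⟨d, χ, hy⟩ := Γ.exists_act (g := g * Γ.δ k * g⁻¹ * (Γ.δ k')⁻¹)
      (mul_mem (mul_mem (mul_mem hS (hD ⟨k, rfl⟩)) (inv_mem hS)) (inv_mem (hD ⟨k', rfl⟩)))
    have e1 := (hy.mul (Γ.act_δ k')).mul h
    rw [inv_mul_cancel_right, inv_mul_cancel_right] at e1
    obtain ⟨e2, e3⟩ := e1.unique (h.mul (Γ.act_δ k))
    obtain rfl : χ = 1 := by simpa using e3
    obtain rfl : d = 1 := by
      subst hk'
      have e4 : (d : F) * (φ k : F) * c = c * ψ (k : K hF) := congrArg Units.val e2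
      rw [← hφ, mul_comm (c : F), mul_left_inj' c.ne_zero, mul_eq_right₀ (by simp)] at e4
      exact Units.ext e4
    exact Pre.tw_iff.2 hy
  · obtain ⟨v, hv, e₁, he₁, e1⟩ := Γ.mem_B.1
      (conj_mem_of_normalizes' le_rfl hg (le_sup_right (a := Γ.V) he))
    have e2 : g * Γ.δ k * g⁻¹ * (Γ.δ k')⁻¹ * e * (g * Γ.δ k * g⁻¹ * (Γ.δ k')⁻¹)⁻¹ * e =
        g * (Γ.δ k * v * (Γ.δ k)⁻¹ * v⁻¹) * g⁻¹ := by
      calc _ = g * Γ.δ k * g⁻¹ * (Γ.δ k')⁻¹ * (e * Γ.δ k') * g * (Γ.δ k)⁻¹ * g⁻¹ * e := by group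
        _ = g * Γ.δ k * (g⁻¹ * e * g) * (Γ.δ k)⁻¹ * (g⁻¹ * e⁻¹ * g) * g⁻¹ * (e * e) := by
          rw [hδ k' e he]; group
        _ = g * Γ.δ k * v * (e₁ * (Γ.δ k)⁻¹) * e₁⁻¹ * v⁻¹ * g⁻¹ := by
          rw [Γ.elE e he, show g⁻¹ * e⁻¹ * g = (g⁻¹ * e * g)⁻¹ by group, ← e1]; group
        _ = _ := by rw [← map_inv, hδ k⁻¹ e₁ he₁]; group
    rw [e2]
    exact conj_mem_of_normalizes Γ.normalizer_S_le hS (mul_mem
      (conj_mem_of_normalizes (hD.trans Γ.normalizer_S_le) ⟨k, rfl⟩ hv) (inv_mem hv))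
  · obtain ⟨e, h0⟩ := (Subgroup.ne_bot_iff_exists_ne_one).1 Γ.neE
    have h1 : g * Γ.δ k * g⁻¹ ∈ Γ.C :=
      (mul_mem_cancel_right (inv_mem (Γ.AC (Γ.D_le_A ⟨k', rfl⟩)))).1 hm
    have h2 := Γ.E_comm e.2 h1
    have h3 : g⁻¹ * e * g⁻¹⁻¹ ∈ Γ.E := Γ.mem_E_of_δ hk (Γ.B_le_Q
      (conj_mem_of_normalizes le_rfl (inv_mem hg) (le_sup_right (a := Γ.V) e.2))) (by
        calc Γ.δ k * (g⁻¹ * e * g⁻¹⁻¹) = g⁻¹ * (g * Γ.δ k * g⁻¹ * e) * g := by group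
          _ = _ := by rw [← h2]; group)
    exact hE (inv_mem_iff.1 (Γ.ti_E e.2 (fun h => h0 (Subtype.ext h)) h3 (inv_mem hg)))

omit [Finite G] in
theorem z_E (b : K hF) {e : G} (he : e ∈ Γ.E) : e * Γ.z b = Γ.z b * e :=
  Γ.E_comm he (Γ.S_le_C (Γ.V_le_S (Γ.z_mem b)))

/-- the elements acting trivially on `S / V` and on `B / V` -/
def MM : Subgroup G where
  carrier := {x | Γ.TW x ∧ ∀ e ∈ Γ.E, ∃ b, x * e * x⁻¹ = Γ.z b * e}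
  one_mem' := ⟨Pre.tw_of_mem (one_mem _), fun e _ => ⟨0, by rw [Γ.z_zero]; group⟩⟩
  mul_mem' := by
    rintro x y ⟨h1, h2⟩ ⟨h3, h4⟩
    refine ⟨h1.mul h3, fun e he => ?_⟩
    obtain ⟨a, ha⟩ := h2 e he
    obtain ⟨b, hb⟩ := h4 e he
    refine ⟨b + a, ?_⟩
    rw [show x * y * e * (x * y)⁻¹ = x * (y * e * y⁻¹) * x⁻¹ by group, hb, ← mul_assoc,
      ← h1.cenV _ (Γ.z_mem b), Γ.z_add, mul_assoc (Γ.z b) (Γ.z a), ← ha]; group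
  inv_mem' := by
    rintro x ⟨h1, h2⟩
    refine ⟨h1.inv, fun e he => ?_⟩
    obtain ⟨a, ha⟩ := h2 e he
    refine ⟨a, ?_⟩
    have e1 : e = Γ.z a * (x * e * x⁻¹) := by rw [ha, ← mul_assoc, Γ.z_mul_self, one_mul]
    have e2 := h1.cenV _ (Γ.z_mem a)
    calc x⁻¹ * e * x⁻¹⁻¹ = x⁻¹ * (Γ.z a * (x * e * x⁻¹)) * x⁻¹⁻¹ := by rw [← e1]
      _ = x⁻¹ * (Γ.z a * x) * e := by group
      _ = _ := by rw [e2]; group

open Classical in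
/-- `x e x⁻¹ = z (lm x e) e` -/
noncomputable def lm (x e : G) : K hF :=
  if h : ∃ b, x * e * x⁻¹ = Γ.z b * e then h.choose else 0

theorem lm_spec {x e : G} (hx : x ∈ Γ.MM) (he : e ∈ Γ.E) : x * e * x⁻¹ = Γ.z (Γ.lm x e) * e := by
  rw [lm, dif_pos (hx.2 e he)]; exact (hx.2 e he).choose_spec

theorem lm_eq {x e : G} (hx : x ∈ Γ.MM) (he : e ∈ Γ.E) {b : K hF}
    (h : x * e * x⁻¹ = Γ.z b * e) : Γ.lm x e = b :=
  Γ.z_inj (mul_right_cancel ((Γ.lm_spec hx he).symm.trans h))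

theorem lm_mul {x y e : G} (hx : x ∈ Γ.MM) (hy : y ∈ Γ.MM) (he : e ∈ Γ.E) :
    Γ.lm (x * y) e = Γ.lm x e + Γ.lm y e := by
  refine Γ.lm_eq (mul_mem hx hy) he ?_
  rw [show x * y * e * (x * y)⁻¹ = x * (y * e * y⁻¹) * x⁻¹ by group, Γ.lm_spec hy he, ← mul_assoc,
    ← hx.1.cenV _ (Γ.z_mem _), add_comm, Γ.z_add, mul_assoc (Γ.z _) (Γ.z _), ← Γ.lm_spec hx he]
  group

theorem lm_mul' {x e e' : G} (hx : x ∈ Γ.MM) (he : e ∈ Γ.E) (he' : e' ∈ Γ.E) :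
    Γ.lm x (e * e') = Γ.lm x e + Γ.lm x e' := by
  refine Γ.lm_eq hx (mul_mem he he') ?_
  rw [show x * (e * e') * x⁻¹ = (x * e * x⁻¹) * (x * e' * x⁻¹) by group, Γ.lm_spec hx he,
    Γ.lm_spec hx he', Γ.z_add, mul_assoc, ← mul_assoc e, Γ.z_E _ he]
  group

theorem lm_of_C {x e : G} (hx : x ∈ Γ.MM) (he : e ∈ Γ.E) (h : x ∈ Γ.C) : Γ.lm x e = 0 :=
  Γ.lm_eq hx he (by rw [← Γ.E_comm he h, Γ.z_zero]; group)

theorem mem_C_of_MM {x e : G} (hx : x ∈ Γ.MM) (he : e ∈ Γ.E) (h1 : e ≠ 1) (h : x * e = e * x) :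
    x ∈ Γ.C := fun e' he' => by
  have h2 := conj_mem_of_normalizes (le_normalizer_centralizer le_rfl) (Γ.mem_NA he h1 h) (Γ.EK.le he')
  have h3 := Γ.lm_spec hx he'
  rw [h3] at h2
  rw [Γ.eq_one_of_cen (Γ.S_le_A (Γ.V_le_S (Γ.z_mem _))) ((mul_mem_cancel_right (Γ.EK.le he')).1 h2)
    (Sl.two (Γ.z_mul_self _)), one_mul, mul_inv_eq_iff_eq_mul] at h3
  exact h3.symm

theorem mem_C_of_lm {x e : G} (hx : x ∈ Γ.MM) (he : e ∈ Γ.E) (h1 : e ≠ 1) (h : Γ.lm x e = 0) :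
    x ∈ Γ.C := by
  have := Γ.lm_spec hx he
  rw [h, Γ.z_zero, one_mul, mul_inv_eq_iff_eq_mul] at this
  exact Γ.mem_C_of_MM hx he h1 this

theorem mem_MM_of_C {x : G} (h : x ∈ Γ.C) (h1 : Γ.TW x) : x ∈ Γ.MM :=
  ⟨h1, fun e he => ⟨0, by rw [← Γ.E_comm he h, Γ.z_zero]; group⟩⟩

omit [Finite G] in
theorem conj_E {n x e : G} (hn : n ∈ Γ.C) (he : e ∈ Γ.E) {v : G} (h : x * e * x⁻¹ = v * e) :
    n * x * n⁻¹ * e * (n * x * n⁻¹)⁻¹ = n * v * n⁻¹ * e := by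
  calc _ = n * x * n⁻¹ * (e * n) * x⁻¹ * n⁻¹ := by group
    _ = n * (x * e * x⁻¹) * n⁻¹ := by rw [Γ.E_comm he hn]; group
    _ = n * v * (e * n⁻¹) := by rw [h]; group
    _ = _ := by rw [Γ.E_comm he (inv_mem hn)]; group

theorem N_le_normalizer_MM : Γ.N ≤ normalizer (Γ.MM : Set G) := by
  refine le_normalizer_of_cj_le fun n hn => cj_le_iff_forall.2 fun x hx => ⟨fun y hy => ?_, fun e he => ?_⟩
  · have := conj_mem_of_normalizes Γ.normalizer_S_le hn.2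
      (hx.1 _ (conj_mem_of_normalizes' le_rfl hn.2 hy))
    convert this using 1
    group
  · obtain ⟨b, hb⟩ := Γ.mem_V.1 (conj_mem_of_normalizes Γ.normalizer_S_le hn.2 (Γ.z_mem (Γ.lm x e)))
    exact ⟨b, by rw [Γ.conj_E hn.1 he (Γ.lm_spec hx he), hb]⟩

theorem δ_mem_N (k : (K hF)ˣ) : Γ.δ k ∈ Γ.N := Γ.τ_mem_N _

theorem D_le_N : Γ.D ≤ Γ.N := by rintro _ ⟨k, rfl⟩; exact Γ.δ_mem_N k

theorem lm_δ (k : (K hF)ˣ) {x e : G} (hx : x ∈ Γ.MM) (he : e ∈ Γ.E) :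
    Γ.lm (Γ.δ k * x * (Γ.δ k)⁻¹) e = (k : K hF) ^ 2 * Γ.lm x e :=
  Γ.lm_eq (conj_mem_of_normalizes Γ.N_le_normalizer_MM (Γ.δ_mem_N k) hx) he (by
    rw [Γ.conj_E (Γ.δ_mem_N k).1 he (Γ.lm_spec hx he), Γ.δ_z])

theorem lm_η {x e : G} (hx : x ∈ Γ.MM) (he : e ∈ Γ.E) :
    Γ.lm (Γ.η * x * Γ.η⁻¹) e = Γ.lm x e :=
  Γ.lm_eq (conj_mem_of_normalizes Γ.N_le_normalizer_MM (show Γ.η ∈ Γ.N from Γ.τ_mem_N _) hx) he (by
    rw [Γ.conj_E (Γ.AC Γ.η_mem) he (Γ.lm_spec hx he), Γ.η_z, mul_inv_cancel_right])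

omit [Finite G] in
theorem exists_sq_unit {a : K hF} (h : a ≠ 0) : ∃ k : (K hF)ˣ, (k : K hF) ^ 2 = a := by
  obtain ⟨k, rfl⟩ := isSquare_of_charTwo' a
  exact ⟨Units.mk0 k fun e => h (by rw [e, mul_zero]), by rw [Units.val_mk0, sq]⟩

/-- the additive map `bar : M → K` -/
theorem exists_bar {m : G} (hm : m ∈ Γ.MM) (h3 : m ∉ Γ.C) : ∃ bar : G → K hF,
    (∀ x ∈ Γ.MM, ∀ e ∈ Γ.E, Γ.lm x e = Γ.lm m e * bar x) ∧
    (∀ x ∈ Γ.MM, ∀ y ∈ Γ.MM, bar (x * y) = bar x + bar y) ∧ (∀ x ∈ Γ.MM, bar x = 0 ↔ x ∈ Γ.C) ∧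
    (∀ k, ∃ x ∈ Γ.MM, bar x = k) ∧
    (∀ k, ∀ x ∈ Γ.MM, bar (Γ.δ k * x * (Γ.δ k)⁻¹) = (k : K hF) ^ 2 * bar x) ∧
    ∀ x ∈ Γ.MM, bar (Γ.η * x * Γ.η⁻¹) = bar x := by
  obtain ⟨⟨e₀, he₀⟩, h0⟩ := (Subgroup.ne_bot_iff_exists_ne_one).1 Γ.neE
  have e1 : e₀ ≠ 1 := fun h => h0 (Subtype.ext h)
  have l0 : Γ.lm m e₀ ≠ 0 := fun h => h3 (Γ.mem_C_of_lm hm he₀ e1 h)
  have hz : ∀ x ∈ Γ.MM, Γ.lm x e₀ / Γ.lm m e₀ = 0 ↔ x ∈ Γ.C := fun x hx => by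
    rw [div_eq_zero_iff, or_iff_left l0]
    exact ⟨Γ.mem_C_of_lm hx he₀ e1, Γ.lm_of_C hx he₀⟩
  have hc := fun k => conj_mem_of_normalizes Γ.N_le_normalizer_MM (Γ.δ_mem_N k) hm
  refine ⟨fun x => Γ.lm x e₀ / Γ.lm m e₀, fun x hx e he => ?_,
    fun x hx y hy => by simp only [Γ.lm_mul hx hy he₀, add_div], hz, fun a => ?_,
    fun k x hx => by simp only [Γ.lm_δ k hx he₀, mul_div_assoc], fun x hx => by simp only [Γ.lm_η hx he₀]⟩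
  · by_cases h1 : Γ.lm x e₀ / Γ.lm m e₀ = 0
    · simp only [h1, mul_zero]; exact Γ.lm_of_C hx he ((hz x hx).1 h1)
    · obtain ⟨k, hk⟩ := exists_sq_unit h1
      have h2 : x * (Γ.δ k * m * (Γ.δ k)⁻¹) ∈ Γ.C := Γ.mem_C_of_lm (mul_mem hx (hc k)) he₀ e1 (by
        rw [Γ.lm_mul hx (hc k) he₀, Γ.lm_δ k hm he₀, hk, div_mul_cancel₀ _ l0,
          CharTwo.add_self_eq_zero])
      have h4 := Γ.lm_of_C (mul_mem hx (hc k)) he h2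
      rw [Γ.lm_mul hx (hc k) he, Γ.lm_δ k hm he, hk, CharTwo.add_eq_zero] at h4
      simp only [h4, mul_comm]
  · by_cases h1 : a = 0
    · exact ⟨1, one_mem _, h1 ▸ (hz 1 (one_mem _)).2 (one_mem _)⟩
    · obtain ⟨k, hk⟩ := exists_sq_unit h1
      exact ⟨_, hc k, by simp only [Γ.lm_δ k hm he₀, hk, mul_div_cancel_right₀ _ l0]⟩

omit [Finite G] in
theorem one_add_sq_ne {k : (K hF)ˣ} (hk : k ≠ 1) : (k : K hF) ^ 2 + 1 ≠ 0 := fun e =>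
  hk (Units.ext (eq_one_of_sq (CharTwo.add_eq_zero.1 e)))

/-- the group `R₁` -/
theorem exists_R1 {bar : G → K hF} (b1 : ∀ x ∈ Γ.MM, ∀ y ∈ Γ.MM, bar (x * y) = bar x + bar y)
    (b2 : ∀ x ∈ Γ.MM, bar x = 0 ↔ x ∈ Γ.C) (b3 : ∀ k, ∃ x ∈ Γ.MM, bar x = k)
    (b4 : ∀ k, ∀ x ∈ Γ.MM, bar (Γ.δ k * x * (Γ.δ k)⁻¹) = (k : K hF) ^ 2 * bar x)
    (b5 : ∀ x ∈ Γ.MM, bar (Γ.η * x * Γ.η⁻¹) = bar x) :
    ∃ R : Subgroup G, R ≤ Γ.MM ∧ R ≤ centralizer (Γ.S : Set G) ∧ R ≤ centralizer {Γ.η} ∧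
      Γ.N ≤ normalizer (R : Set G) ∧ Γ.B ≤ R ∧ (∀ x ∈ R, x ∈ Γ.C → x ∈ Γ.B) ∧
      ∀ k, ∃ x ∈ R, bar x = k := by
  have hQO : Γ.Q ⊔ Γ.O ≤ Γ.MM := fun x hx => Γ.mem_MM_of_C (Γ.mem_QO.1 hx).1 (Γ.mem_QO.1 hx).2
  have hker : ∀ x ∈ Γ.MM, bar x = 0 → x ∈ Γ.Q ⊔ Γ.O := fun x hx h =>
    Γ.mem_QO.2 ⟨(b2 x hx).1 h, hx.1⟩
  have binv : ∀ x ∈ Γ.MM, bar x⁻¹ = bar x := fun x hx => by
    have := b1 _ (inv_mem hx) x hx
    rw [inv_mul_cancel, (b2 1 (one_mem _)).2 (one_mem _)] at this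
    exact CharTwo.add_eq_zero.1 this.symm
  have hcj : ∀ x ∈ Γ.MM, ∀ y ∈ Γ.MM, bar (x * y * x⁻¹) = bar y := fun x hx y hy => by
    rw [b1 _ (mul_mem hx hy) _ (inv_mem hx), b1 x hx y hy, binv x hx]
    linear_combination CharTwo.add_self_eq_zero (bar x)
  have hN : Γ.MM ≤ normalizer (Γ.O : Set G) ⊓ normalizer (Γ.Q : Set G) := by
    refine le_trans (le_normalizer_of_cj_le fun x hx => cj_le_iff_forall.2 fun y hy => ?_)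
      Γ.normalizer_QO_le
    refine hker _ (mul_mem (mul_mem hx (hQO hy)) (inv_mem hx)) ?_
    rw [hcj x hx y (hQO hy), b2 y (hQO hy)]; exact (Γ.mem_QO.1 hy).1
  obtain ⟨k, hk⟩ := Γ.exists_ne_one
  obtain ⟨Q₁, p1, -, hsup, hmem⟩ := lift (N := Γ.MM) (D := Γ.D) Γ.pgroup_Q Γ.odd_O
    (le_sup_left.trans hQO) (le_sup_right.trans hQO) (hN.trans inf_le_left)
    (fun d hd o ho => ((Γ.O_le ho).2 d (Γ.D_le_A hd)).symm) Γ.Q_le_cenO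
    (fun n hn => ⟨1, hker _ (pow_mem hn _) (by
      rw [pow_one, pow_two, b1 n hn n hn, CharTwo.add_self_eq_zero])⟩)
    (Γ.D_le_N.trans Γ.N_le_normalizer_MM) (fun x hx => by
      obtain ⟨y, hy, e⟩ := b3 (bar x / ((k : K hF) ^ 2 + 1))
      have h1 := conj_mem_of_normalizes Γ.N_le_normalizer_MM (Γ.δ_mem_N k) (inv_mem hy)
      have h2 : ⁅y, Γ.δ k⁆ = y * (Γ.δ k * y⁻¹ * (Γ.δ k)⁻¹) := by
        rw [commutatorElement_def]; group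
      have h3 : ⁅y, Γ.δ k⁆ ∈ Γ.MM := h2 ▸ mul_mem hy h1
      rw [show x = ⁅y, Γ.δ k⁆ * (⁅y, Γ.δ k⁆⁻¹ * x) by group]
      refine mul_mem_sup (commutator_mem_commutator hy ⟨k, rfl⟩)
        (hker _ (mul_mem (inv_mem h3) hx) ?_)
      rw [b1 _ (inv_mem h3) x hx, binv _ h3, h2, b1 y hy _ h1, b4 k _ (inv_mem hy), binv y hy,
        CharTwo.add_eq_zero, e]
      field_simp [one_add_sq_ne hk]
      ring)
  have hM : Q₁ ≤ Γ.MM := fun x hx => ((hmem x).1 hx).1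
  have hQ : Γ.Q ≤ Q₁ := fun x hx =>
    (hmem x).2 ⟨hQO (mem_sup_left hx), isPGroup_iff_forall_mem.1 Γ.pgroup_Q x hx⟩
  have hCQ : ∀ x ∈ Q₁, x ∈ Γ.C → x ∈ Γ.Q := fun x hx h =>
    Γ.mem_Q_of_tw h (hM hx).1 ((hmem x).1 hx).2
  have hNQ : Γ.N ≤ normalizer (Q₁ : Set G) := le_normalizer_of_cj_le fun n hn =>
    cj_le_iff_forall.2 fun x hx => (hmem _).2 ⟨conj_mem_of_normalizes Γ.N_le_normalizer_MM hn (hM hx),
      let ⟨j, hj⟩ := ((hmem x).1 hx).2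
      ⟨j, by rw [conj_pow, hj]; group⟩⟩
  have hη : Γ.η ∈ Γ.N := Γ.τ_mem_N _
  have hcov : ∀ x ∈ Q₁, ∃ s ∈ Γ.Q, x * s ∈ centralizer (Γ.S : Set G) ⊓ centralizer {Γ.η} := by
    intro x hx
    obtain ⟨s, hs, h1⟩ := coprime_fixed_point_quotient (zpowers Γ.η) Γ.Q
      (zpowers_le.2 (Γ.N_le_normalizer_Q hη)) (CL.Gold.coprime_card_of_isPGroup Γ.pgroup_Q (by
        rw [Nat.card_zpowers]
        exact ((even_q hF).add_one.of_dvd_nat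
          (orderOf_dvd_of_pow_eq_one Γ.η_pow)).coprime_two_right)).symm
      (Or.inr (isSolvable_of_isPGroup Γ.pgroup_Q)) x (hN (hM hx)).2 (by
        rintro a ha
        have h2 := conj_mem_of_normalizes hNQ (zpowers_le.2 hη ha) hx
        refine hCQ _ (mul_mem h2 (inv_mem hx)) ((b2 _ (hM (mul_mem h2 (inv_mem hx)))).1 ?_)
        rw [b1 _ (hM h2) _ (hM (inv_mem hx)), binv x (hM hx), CharTwo.add_eq_zero]
        obtain ⟨n, rfl⟩ := (mem_powers_iff_mem_zpowers.2 ha)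
        clear h2 ha
        induction n with
        | zero => simp
        | succ n ih =>
          simp only at ih ⊢
          rw [← ih, ← b5 _ (hM (conj_mem_of_normalizes hNQ (pow_mem hη n) hx)), pow_succ']
          congr 1; group)
    have h2 : Γ.η * (x * s) = x * s * Γ.η := h1 _ (mem_zpowers _)
    have h3 := mul_mem hx (hQ hs)
    exact ⟨s, hs, Γ.cen_of_η (hM h3).1.mem ((hmem _).1 h3).2 h2,
      mem_centralizer_singleton_iff.2 h2.symm⟩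
  refine ⟨Q₁ ⊓ centralizer (Γ.S : Set G), inf_le_left.trans hM, inf_le_right, fun x hx => ?_,
    le_normalizer_inf hNQ (le_normalizer_centralizer inf_le_right),
    le_inf (Γ.B_le_Q.trans hQ) (Γ.B_le_cen.trans inf_le_left),
    fun x hx h => Γ.mem_B_of_cen (hCQ x hx.1 h) hx.2, fun a => ?_⟩
  · obtain ⟨s, hs, h1⟩ := hcov x hx.1
    have h2 : x ∈ centralizer (Γ.S : Set G) := hx.2
    have h4 : s ∈ centralizer {Γ.η} :=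
      (Γ.B_le_cen (Γ.mem_B_of_cen hs ((mul_mem_cancel_left h2).1 h1.1))).2
    exact (mul_mem_cancel_right h4).1 h1.2
  · obtain ⟨y, hy, rfl⟩ := b3 a
    rw [← hsup] at hy
    obtain ⟨x, hx, o, ho, rfl⟩ := (mem_sup_of_normalizes_right (hM.trans (hN.trans inf_le_left))).1 hy
    obtain ⟨s, hs, h1⟩ := hcov x hx
    refine ⟨x * s, ⟨mul_mem hx (hQ hs), h1.1⟩, ?_⟩
    rw [b1 x (hM hx) s (hM (hQ hs)), b1 x (hM hx) o (hQO (mem_sup_right ho)),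
      (b2 s (hM (hQ hs))).2 (Γ.Q_le_N hs).1, (b2 o (hQO (mem_sup_right ho))).2 (Γ.O_le ho).1]

/-- Define `lam e` by `m e m⁻¹ = z (lam e) e` (injective as `m ∉ C`).
`M = {x | TW x, ⁅x, E⁆ ≤ V}` is a subgroup normalized by `N`.  For `x ∈ M` let `λ_x : E → K` be given by
`x e x⁻¹ = z (λ_x e) e`; `λ_{xy} = λ_x + λ_y`; if `λ_x e₀ = 0` for one `e₀ ≠ 1` then `x ∈ C`, `λ_x = 0`.
`λ` of `δ(k) m δ(k)⁻¹` is `k ^ 2 lam`; hence every `λ_x` is `bar x * lam` (compare at `e₀`), `bar : M → K`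
is onto with kernel `Q O` (`mem_QO`).  `lift` (`normalizer_QO_le`) gives the 2-group `Q₁ ≤ M`,
`Q₁ O = M`.  `R₁ = C_{Q₁}(η)` covers `Q₁ / Q` (coprime action), `R₁ ⊓ Q = B`, `R₁ ≤ C(S)` (`cen_of_η`), and
`R₁ = C_{Q₁}(S)`, so `N` normalizes `R₁`.  For `x ∈ R₁ - B`, `x ^ 2 = v e ∈ B` and `e ≠ 1` would give
`x ∈ C`; so `R₁ / V` is elementary.  `V1 = V ⊔ ⁅R₁, D⁆` has `V1 ⊓ B = V`, `V1 B = R₁` (`S0055` in `R₁ / V`;
concretely `V1 = {x ∈ R₁ | ∏_{k} δ(k) x δ(k)⁻¹ ∈ V}`, or `{r⁻¹ δ r δ⁻¹} V` for one `δ ≠ 1`).  `N` normalizes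
`V1` since `c D c⁻¹ ≤ S D` and `S` centralizes `R₁`.  The commutator `γ : K × K → K` on `V1 / V` has
`γ (k a, k b) = k γ (a, b)`; `hua` for `γ ^ 2` (or `CL.InvFix.descend`) and `γ (1, 1) = 0` give `γ = 0`.
Squaring is then additive and `D`-equivariant, `x ^ 2 = z (d0 * bar x)`. -/
theorem nonempty_st1 {m : G} (h1 : Γ.TW m) (h2 : ∀ e ∈ Γ.E, m * e * m⁻¹ * e ∈ Γ.V) (h3 : m ∉ Γ.C) :
    Nonempty (St1 Γ) := by
  have hm : m ∈ Γ.MM := ⟨h1, fun e he => by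
    obtain ⟨b, hb⟩ := Γ.mem_V.1 (h2 e he)
    exact ⟨b, by rw [hb, mul_assoc _ e e, Γ.elE e he, mul_one]⟩⟩
  obtain ⟨bar, b0, b1, b2, b3, b4, b5⟩ := Γ.exists_bar hm h3
  obtain ⟨R, hM, hS, hη, hN, hB, hC, hsurj⟩ := Γ.exists_R1 b1 b2 b3 b4 b5
  have hVB : Γ.V ≤ Γ.B := le_sup_left
  have hVR : Γ.V ≤ R := hVB.trans hB
  have hcen : ∀ v ∈ Γ.V, ∀ x ∈ R, v * x = x * v := fun v hv x hx => hS hx v (Γ.V_le_S hv)
  have bV : ∀ v ∈ Γ.V, bar v = 0 := fun v hv => (b2 v (hM (hVR hv))).2 (Γ.S_le_C (Γ.V_le_S hv))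
  have binv : ∀ x ∈ R, bar x⁻¹ = bar x := fun x hx => by
    have := b1 _ (hM (inv_mem hx)) x (hM hx)
    rw [inv_mul_cancel, bV 1 (one_mem _)] at this
    exact CharTwo.add_eq_zero.1 this.symm
  have hsq : ∀ x ∈ R, x * x ∈ Γ.V := by
    intro x hx
    have h4 := hC _ (mul_mem hx hx) ((b2 _ (hM (mul_mem hx hx))).1 (by
      rw [b1 x (hM hx) x (hM hx), CharTwo.add_self_eq_zero]))
    obtain ⟨v, hv, e, he, h5⟩ := Γ.mem_B.1 h4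
    by_cases e1 : e = 1
    · rw [← h5, e1, mul_one]; exact hv
    · rw [Γ.B_sq (hC x hx (Γ.mem_C_of_MM (hM hx) he e1 ?_))]
      · exact one_mem _
      · calc x * e = v⁻¹ * (v * x) * e := by group
          _ = v⁻¹ * (x * (v * e)) := by rw [hcen v hv x hx]; group
          _ = v⁻¹ * (v * e * x) := by rw [h5]; group
          _ = _ := by group
  have hcm : ∀ x ∈ R, ∀ y ∈ R, x * y * x⁻¹ * y⁻¹ ∈ Γ.V := by
    intro x hx y hy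
    rw [show x * y * x⁻¹ * y⁻¹ = x * x * (x⁻¹ * y * (x⁻¹ * y)) * (y * y)⁻¹ by group]
    exact mul_mem (mul_mem (hsq x hx) (hsq _ (mul_mem (inv_mem hx) hy))) (inv_mem (hsq y hy))
  obtain ⟨k₀, hk₀⟩ := Γ.exists_ne_one
  obtain ⟨d, hd⟩ : ∃ d, d = Γ.δ k₀ := ⟨_, rfl⟩
  have hdN : d ∈ Γ.N := hd ▸ Γ.δ_mem_N k₀
  have hNV : Γ.N ≤ normalizer (Γ.V : Set G) := inf_le_right.trans Γ.normalizer_S_le
  have hdR : ∀ r ∈ R, d * r * d⁻¹ ∈ R := fun r hr => conj_mem_of_normalizes hN hdN hr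
  have hcR : ∀ r ∈ R, d * r * d⁻¹ * r⁻¹ ∈ R := fun r hr => mul_mem (hdR r hr) (inv_mem hr)
  have hcv : ∀ x ∈ R, ∀ v ∈ Γ.V, x * v * x⁻¹ ∈ Γ.V := fun x hx v hv => by
    rwa [← hcen v hv x hx, mul_inv_cancel_right]
  let V1 : Subgroup G :=
    { carrier := {x | ∃ r ∈ R, x * (d * r * d⁻¹ * r⁻¹)⁻¹ ∈ Γ.V}
      one_mem' := ⟨1, one_mem _, by simp⟩
      mul_mem' := by
        rintro x y ⟨r, hr, hx⟩ ⟨r', hr', hy⟩
        refine ⟨r * r', mul_mem hr hr', ?_⟩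
        have e : x * y * (d * (r * r') * d⁻¹ * (r * r')⁻¹)⁻¹ =
            (x * (d * r * d⁻¹ * r⁻¹)⁻¹) * ((d * r * d⁻¹ * r⁻¹) * (y * (d * r' * d⁻¹ * r'⁻¹)⁻¹) *
              (d * r * d⁻¹ * r⁻¹)⁻¹) * ((d * r * d⁻¹) * (r⁻¹ * (d * r' * d⁻¹ * r'⁻¹) * r⁻¹⁻¹ *
              (d * r' * d⁻¹ * r'⁻¹)⁻¹) * (d * r * d⁻¹)⁻¹) := by group
        rw [e]
        exact mul_mem (mul_mem hx (hcv _ (hcR r hr) _ hy))
          (hcv _ (hdR r hr) _ (hcm _ (inv_mem hr) _ (hcR r' hr')))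
      inv_mem' := by
        rintro x ⟨r, hr, hx⟩
        refine ⟨r, hr, ?_⟩
        have e : x⁻¹ * (d * r * d⁻¹ * r⁻¹)⁻¹ = ((d * r * d⁻¹ * r⁻¹)⁻¹ *
            (x * (d * r * d⁻¹ * r⁻¹)⁻¹)⁻¹ * (d * r * d⁻¹ * r⁻¹)⁻¹⁻¹) *
            ((d * r * d⁻¹ * r⁻¹) * (d * r * d⁻¹ * r⁻¹))⁻¹ := by group
        rw [e]
        exact mul_mem (hcv _ (inv_mem (hcR r hr)) _ (inv_mem hx)) (inv_mem (hsq _ (hcR r hr))) }
  have hVV : Γ.V ≤ V1 := fun v hv => ⟨1, one_mem _, by simpa using hv⟩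
  have hc1 : ∀ r ∈ R, d * r * d⁻¹ * r⁻¹ ∈ V1 := fun r hr =>
    ⟨r, hr, by rw [mul_inv_cancel]; exact one_mem _⟩
  have h1R : V1 ≤ R := by
    rintro x ⟨r, hr, hx⟩
    exact (mul_mem_cancel_right (inv_mem (hcR r hr))).1 (hVR hx)
  have bc : ∀ r ∈ R, bar (d * r * d⁻¹ * r⁻¹) = ((k₀ : K hF) ^ 2 + 1) * bar r := fun r hr => by
    rw [b1 _ (hM (hdR r hr)) _ (hM (inv_mem hr)), binv r hr, hd, b4 k₀ r (hM hr)]; ring
  have hBc : ∀ c ∈ Γ.N, ∀ r ∈ Γ.B, c * r * c⁻¹ * r⁻¹ ∈ Γ.V := by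
    intro c hc r hr
    obtain ⟨v, hv, e, he, rfl⟩ := Γ.mem_B.1 hr
    rw [show c * (v * e) * c⁻¹ * (v * e)⁻¹ = c * v * (e * c⁻¹) * e⁻¹ * v⁻¹ by group,
      Γ.E_comm he (inv_mem hc.1), show c * v * (c⁻¹ * e) * e⁻¹ * v⁻¹ = c * v * c⁻¹ * v⁻¹ by group]
    exact mul_mem (conj_mem_of_normalizes hNV hc hv) (inv_mem hv)
  have bz : ∀ x ∈ V1, bar x = 0 ↔ x ∈ Γ.V := by
    refine fun x hx => ⟨fun h0 => ?_, bV x⟩
    obtain ⟨r, hr, hx'⟩ := id hx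
    have h4 := bV _ hx'
    rw [b1 x (hM (h1R hx)) _ (hM (inv_mem (hcR r hr))), binv _ (hcR r hr), h0, zero_add, bc r hr,
      mul_eq_zero, or_iff_right (one_add_sq_ne hk₀)] at h4
    exact (mul_mem_cancel_right (inv_mem (hBc d hdN r (hC r hr ((b2 r (hM hr)).1 h4))))).1 hx'
  have bs : ∀ a, ∃ x ∈ V1, bar x = a := fun a => by
    obtain ⟨r, hr, e⟩ := hsurj (a / ((k₀ : K hF) ^ 2 + 1))
    exact ⟨_, hc1 r hr, by rw [bc r hr, e, mul_div_cancel₀ _ (one_add_sq_ne hk₀)]⟩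
  have hδ1 : ∀ k, ∀ x ∈ V1, Γ.δ k * x * (Γ.δ k)⁻¹ ∈ V1 := by
    rintro k x ⟨r, hr, hx⟩
    refine ⟨_, conj_mem_of_normalizes hN (Γ.δ_mem_N k) hr, ?_⟩
    have e : d = Γ.δ k * d * (Γ.δ k)⁻¹ := by
      rw [hd, ← map_mul, mul_comm k, map_mul, mul_inv_cancel_right]
    have := conj_mem_of_normalizes hNV (Γ.δ_mem_N k) hx
    convert this using 1
    conv_lhs => rw [e]
    group
  have hδc : ∀ k, ∀ r ∈ R, Γ.δ k * r * (Γ.δ k)⁻¹ * r⁻¹ ∈ V1 := by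
    intro k r hr
    obtain ⟨x, hx, e⟩ := bs (bar r)
    have h4 := mul_mem (inv_mem (h1R hx)) hr
    have h5 := hBc _ (Γ.δ_mem_N k) _ (hC _ h4 ((b2 _ (hM h4)).1 (by
      rw [b1 _ (hM (inv_mem (h1R hx))) r (hM hr), binv x (h1R hx), e, CharTwo.add_self_eq_zero])))
    rw [show Γ.δ k * r * (Γ.δ k)⁻¹ * r⁻¹ = (Γ.δ k * x * (Γ.δ k)⁻¹) *
      (Γ.δ k * (x⁻¹ * r) * (Γ.δ k)⁻¹ * (x⁻¹ * r)⁻¹) * x⁻¹ by group]
    exact mul_mem (mul_mem (hδ1 k x hx) (hVV h5)) (inv_mem hx)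
  obtain ⟨x₁, hx₁, bx₁⟩ := bs 1
  obtain ⟨d0, hd0⟩ := Γ.mem_V.1 (hsq x₁ (h1R hx₁))
  have hsq1 : ∀ x ∈ V1, x * x = Γ.z (d0 * bar x) := by
    intro x hx
    by_cases h0 : bar x = 0
    · rw [h0, mul_zero, Γ.z_zero, Γ.V_sq ((bz x hx).1 h0)]
    · obtain ⟨k, hk⟩ := exists_sq_unit h0
      have h4 := hδ1 k x₁ hx₁
      have h5 := (bz _ (mul_mem (inv_mem h4) hx)).1 (by
        rw [b1 _ (hM (h1R (inv_mem h4))) x (hM (h1R hx)), binv _ (h1R h4), b4 k x₁ (hM (h1R hx₁)),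
          bx₁, mul_one, hk, CharTwo.add_self_eq_zero])
      obtain ⟨y, hy⟩ : ∃ y, y = Γ.δ k * x₁ * (Γ.δ k)⁻¹ := ⟨_, rfl⟩
      have h6 : y * y = Γ.z (d0 * bar x) := by
        rw [hy, conj_mul, ← hd0, Γ.δ_z, hk, mul_comm]
      rw [← hy] at h4 h5
      calc x * x = y * ((y⁻¹ * x) * y) * (y⁻¹ * x) := by group
        _ = y * y * ((y⁻¹ * x) * (y⁻¹ * x)) := by rw [hcen _ h5 y (h1R h4)]; group
        _ = _ := by rw [Γ.V_sq h5, mul_one, h6]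
  refine ⟨⟨V1, bar, Γ.lm m, d0, hVV, fun x hx y hy => ?_, h1R.trans hS, h1R.trans hη,
    fun x hx y hy => b1 x (hM (h1R hx)) y (hM (h1R hy)), bz, bs,
    fun k x hx => b4 k x (hM (h1R hx)), hsq1,
    fun x hx e he => by rw [← b0 x (hM (h1R hx)) e he, Γ.lm_spec (hM (h1R hx)) he],
    fun e he e' he' => Γ.lm_mul' hm he he',
    fun e he h0 => not_not.1 fun e1 => h3 (Γ.mem_C_of_lm hm he e1 h0), ?_⟩⟩
  · have h4 := hsq1 _ (mul_mem hx hy)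
    rw [b1 x (hM (h1R hx)) y (hM (h1R hy)), mul_add, Γ.z_add, ← hsq1 x hx, ← hsq1 y hy] at h4
    calc x * y = x⁻¹ * (x * x * (y * y)) * y⁻¹ := by group
      _ = _ := by rw [← h4]; group
  · refine le_normalizer_of_cj_le fun n hn => cj_le_iff_forall.2 ?_
    rintro x ⟨r, hr, hx⟩
    obtain ⟨c, ψ, hc⟩ := Γ.exists_act hn.2
    obtain ⟨k', -, y, hy, e⟩ := Γ.conj_δ (Γ.CN hn.1) hc k₀
    have h4 := conj_mem_of_normalizes hN hn hr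
    have h5 := hS (conj_mem_of_normalizes hN (Γ.δ_mem_N k') h4) y hy
    have e1 : n * x * n⁻¹ = n * (x * (d * r * d⁻¹ * r⁻¹)⁻¹) * n⁻¹ *
        (Γ.δ k' * (n * r * n⁻¹) * (Γ.δ k')⁻¹ * (n * r * n⁻¹)⁻¹) := by
      calc _ = n * (x * (d * r * d⁻¹ * r⁻¹)⁻¹) * n⁻¹ * ((n * d * n⁻¹) * (n * r * n⁻¹) *
            (n * d * n⁻¹)⁻¹ * (n * r * n⁻¹)⁻¹) := by group
        _ = n * (x * (d * r * d⁻¹ * r⁻¹)⁻¹) * n⁻¹ * ((y * (Γ.δ k' * (n * r * n⁻¹) * (Γ.δ k')⁻¹)) *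
            y⁻¹ * (n * r * n⁻¹)⁻¹) := by
          conv_lhs => rw [show n * d * n⁻¹ = y * Γ.δ k' by rw [hd, e]]
          group
        _ = _ := by rw [h5]; group
    rw [e1]
    exact mul_mem (hVV (conj_mem_of_normalizes hNV hn hx)) (hδc k' _ h4)

end Su

namespace St1

variable {Γ : Su hF G} (Λ : St1 Γ)

/-- `R₁ = V1 E` -/
def R : Subgroup G := Λ.V1 ⊔ Γ.E

theorem mem_R {r : G} : r ∈ Λ.R ↔ ∃ x ∈ Λ.V1, ∃ e ∈ Γ.E, x * e = r := by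
  exact mem_sup_of_normalizes_left ((le_sup_right.trans Γ.Q_le_N).trans Λ.nor)

theorem card_V1 : Nat.card Λ.V1 = q ^ 2 := by
  let f : Λ.V1 →* Multiplicative (K hF) := MonoidHom.mk' (fun x => Multiplicative.ofAdd (Λ.bar x))
    fun x y => congrArg Multiplicative.ofAdd (Λ.bar_mul _ x.2 _ y.2)
  have h1 : f.ker = Γ.V.subgroupOf Λ.V1 := by
    ext x; exact Λ.bar_eq_zero x x.2
  have h2 : Function.Surjective f := fun k => by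
    obtain ⟨x, hx, e⟩ := Λ.bar_surj k.toAdd
    exact ⟨⟨x, hx⟩, congrArg Multiplicative.ofAdd e⟩
  rw [← f.ker.index_mul_card, index_ker, MonoidHom.range_eq_top.2 h2, card_top, h1,
    Nat.card_congr (subgroupOfEquivOfLe Λ.le).toEquiv, Γ.card_V,
    Nat.card_congr Multiplicative.toAdd, card_K, pow_two]

theorem pgroup_V1 : IsPGroup 2 Λ.V1 := by
  refine isPGroup_iff_forall_mem.2 fun x hx => ⟨2, ?_⟩
  rw [show 2 ^ 2 = 2 * 2 from rfl, pow_mul, pow_two, pow_two, Λ.sq x hx, Γ.z_mul_self]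

theorem pgroup_R : IsPGroup 2 Λ.R := by
  exact isPGroup_sup_of_normalizes' Λ.pgroup_V1 Γ.pgroup_E
    ((le_sup_right.trans Γ.Q_le_N).trans Λ.nor)

theorem mem_V_of_C' {x : G} (hx : x ∈ Λ.V1) (h : x ∈ Γ.C) : x ∈ Γ.V := by
  obtain ⟨⟨e, he⟩, h0⟩ := (Subgroup.ne_bot_iff_exists_ne_one).1 Γ.neE
  have h1 := Λ.cE x hx e he
  rw [← Γ.E_comm he h, mul_inv_cancel_right, eq_comm, mul_eq_right, Γ.z_eq_one, mul_eq_zero] at h1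
  exact (Λ.bar_eq_zero x hx).1 (h1.resolve_left fun h2 => h0 (Subtype.ext (Λ.lam_inj e he h2)))

omit [Finite G] in
theorem mem_V_of_comm {x e : G} (hx : x ∈ Λ.V1) (he : e ∈ Γ.E) (h0 : e ≠ 1) (h : x * e = e * x) :
    x ∈ Γ.V := by
  have h1 := Λ.cE x hx e he
  rw [h, mul_inv_cancel_right, eq_comm, mul_eq_right, Γ.z_eq_one, mul_eq_zero] at h1
  exact (Λ.bar_eq_zero x hx).1 (h1.resolve_left fun h2 => h0 (Λ.lam_inj e he h2))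

theorem eq_one_of_mem {e : G} (he : e ∈ Γ.E) (h : e ∈ Λ.V1) : e = 1 := by
  exact Γ.eq_one_of_mem_S he (Γ.S_le_A (Γ.V_le_S (Λ.mem_V_of_C' h (Γ.E_le_C he))))

theorem card_R : Nat.card Λ.R = q ^ 2 * Nat.card Γ.E := by
  rw [R, Small.card_sup_of_disjoint ((le_sup_right.trans Γ.Q_le_N).trans Λ.nor)
    fun _ hx he => Λ.eq_one_of_mem he hx, Λ.card_V1]

theorem card_E_le (Λ : St1 Γ) : Nat.card Γ.E ≤ q := by
  refine le_of_le_of_eq (Nat.card_le_card_of_injective (fun e : Γ.E => Λ.lam e)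
    fun e e' h => Subtype.ext ?_) (card_K (hF := hF))
  have h1 := Λ.lam_inj _ (mul_mem e.2 e'.2) (by
    rw [Λ.lam_mul _ e.2 _ e'.2, CharTwo.add_eq_zero]; exact h)
  rw [eq_inv_of_mul_eq_one_left h1, inv_eq_of_mul_eq_one_right (Γ.elE _ e'.2)]

theorem B_le_R : Γ.B ≤ Λ.R := by
  exact sup_le_sup_right Λ.le _

theorem R_le_cen : Λ.R ≤ centralizer (Γ.S : Set G) ⊓ centralizer {Γ.η} := by
  exact sup_le (le_inf Λ.cS Λ.cη) (le_sup_right.trans Γ.B_le_cen)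

theorem mem_V_of_C {x : G} (hx : x ∈ Λ.V1) (h : x ∈ Γ.C) : x ∈ Γ.V := by
  exact Λ.mem_V_of_C' hx h

theorem R_inf_C : Λ.R ⊓ Γ.C = Γ.B := by
  refine le_antisymm (fun r hr => ?_) (le_inf Λ.B_le_R (Γ.B_le_Q.trans (Γ.Q_le_N.trans inf_le_left)))
  obtain ⟨x, hx, e, he, rfl⟩ := Λ.mem_R.1 hr.1
  exact mul_mem_sup (Λ.mem_V_of_C hx ((mul_mem_cancel_right (Γ.E_le_C he)).1 hr.2)) he

theorem V1_inf_S : Λ.V1 ⊓ Γ.S = Γ.V := by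
  exact le_antisymm (fun x hx => Λ.mem_V_of_C hx.1 (Γ.S_le_C hx.2)) (le_inf Λ.le Γ.V_le_S)

theorem N_le_normalizer_R : Γ.N ≤ normalizer (Λ.R : Set G) := by
  exact le_normalizer_sup Λ.nor (inf_le_left.trans Γ.C_le_normalizer_E)

theorem mem_V_of_center {r : G} (hr : r ∈ Λ.R) (h : r ∈ centralizer (Λ.R : Set G)) : r ∈ Γ.V := by
  have h1 : r ∈ Γ.B := Λ.R_inf_C.le ⟨hr, Γ.cenE_le fun e he => h e (mem_sup_right he)⟩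
  obtain ⟨v, hv, e, he, rfl⟩ := Γ.mem_B.1 h1
  obtain ⟨x, hx, b1⟩ := Λ.bar_surj 1
  have h2 := Λ.cE x hx e he
  have h3 : x * (v * e) = v * e * x := h x (mem_sup_left hx)
  rw [← mul_assoc, Λ.comm x hx v (Λ.le hv), mul_assoc, mul_assoc, mul_right_inj] at h3
  rw [h3, mul_inv_cancel_right, eq_comm, mul_eq_right, Γ.z_eq_one, b1, mul_one] at h2
  rwa [Λ.lam_inj e he h2, mul_one]

theorem sq_mul {x e : G} (hx : x ∈ Λ.V1) (he : e ∈ Γ.E) :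
    x * e * (x * e) = Γ.z ((Λ.d0 + Λ.lam e) * Λ.bar x) := by
  calc x * e * (x * e) = (x * e * x⁻¹) * (x * x) * e := by group
    _ = _ := by
      rw [Λ.cE x hx e he, Λ.sq x hx, mul_assoc _ e, Γ.z_E _ he, mul_assoc, mul_assoc,
        Γ.elE e he, mul_one, ← Γ.z_add]
      congr 1; ring

/-- the elements of `B - V` are conjugate into `E` -/
theorem exists_conj {e v : G} (he : e ∈ Γ.E) (h1 : e ≠ 1) (hv : v ∈ Γ.V) :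
    ∃ x ∈ Λ.V1, x * e * x⁻¹ = v * e := by
  obtain ⟨b, rfl⟩ := Γ.mem_V.1 hv
  obtain ⟨x, hx, h2⟩ := Λ.bar_surj (b / Λ.lam e)
  exact ⟨x, hx, by rw [Λ.cE x hx e he, h2, mul_div_cancel₀ _ fun h0 => h1 (Λ.lam_inj e he h0)]⟩

theorem mem_E_of_δ {k : (K hF)ˣ} (hk : k ≠ 1) {r : G} (hr : r ∈ Λ.R)
    (h : Γ.δ k * r = r * Γ.δ k) : r ∈ Γ.E := by
  obtain ⟨x, hx, e, he, rfl⟩ := Λ.mem_R.1 hr
  have h1 := Γ.sl_comm (Γ.δ_mem_N k).1 he h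
  have h2 := Λ.bar_δ k x hx
  rw [h1, mul_inv_cancel_right] at h2
  have h3 : ((k : K hF) ^ 2 + 1) * Λ.bar x = 0 := by
    rw [add_mul, ← h2, one_mul, CharTwo.add_self_eq_zero]
  have h4 := (Λ.bar_eq_zero x hx).1 ((mul_eq_zero.1 h3).resolve_left (Su.one_add_sq_ne hk))
  rwa [Γ.δ_fpf hk (Γ.V_le_S h4) h1, one_mul]

theorem comm_V1_D : ⁅Λ.V1, Γ.D⁆ = Λ.V1 := by
  refine le_antisymm (commutator_le_left_of_normalizes (Γ.D_le_N.trans Λ.nor)) fun y hy => ?_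
  obtain ⟨k, hk⟩ := Γ.exists_ne_one
  obtain ⟨u, hu, rfl⟩ := fpf_surj (Λ.nor (Γ.δ_mem_N k))
    (fun u hu h => Λ.eq_one_of_mem (Λ.mem_E_of_δ hk (mem_sup_left hu) h) hu) hy
  exact commutator_mem_commutator hu ⟨k, rfl⟩

/-- a `D`-invariant subgroup of `R₁` meeting `E` trivially lies in `V1` (coprime fixed points) -/
theorem le_V1 {T : Subgroup G} (hT : T ≤ Λ.R) (hD : Γ.D ≤ normalizer (T : Set G))
    (hE : ∀ e ∈ Γ.E, e ∈ T → e = 1) : T ≤ Λ.V1 := by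
  intro y hy
  obtain ⟨k, hk⟩ := Γ.exists_ne_one
  obtain ⟨u, hu, rfl⟩ := fpf_surj (hD ⟨k, rfl⟩)
    (fun u hu h => hE u (Λ.mem_E_of_δ hk (hT hu) h) hu) hy
  obtain ⟨x, hx, e, he, rfl⟩ := Λ.mem_R.1 (hT hu)
  rw [commutatorElement_def, mul_assoc x, Γ.E_comm he (Γ.δ_mem_N k).1,
    show x * (Γ.δ k * e) * (x * e)⁻¹ * (Γ.δ k)⁻¹ = x * (Γ.δ k * x⁻¹ * (Γ.δ k)⁻¹) by group]
  exact mul_mem hx (conj_mem_of_normalizes Λ.nor (Γ.δ_mem_N k) (inv_mem hx))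

/-- `g0c` for a normal subgroup of `X` -/
theorem not_syl {X L : Subgroup G} (h1 : Λ.R ≤ X) (h2 : Γ.C ⊓ centralizer {Γ.η} ≤ X)
    (hL : X ≤ normalizer (L : Set G)) : ¬ SylIn 2 Γ.V L := by
  intro hS
  obtain ⟨⟨e, he⟩, h0⟩ := (Subgroup.ne_bot_iff_exists_ne_one).1 Γ.neE
  obtain ⟨⟨v, hv⟩, h3⟩ := (Subgroup.ne_bot_iff_exists_ne_one).1 Γ.V_ne_bot
  have e1 : e ≠ 1 := fun h => h0 (Subtype.ext h)
  obtain ⟨x, hx, h4⟩ := Λ.exists_conj he e1 hv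
  refine Γ.g0c he e1 hv (fun h => h3 (Subtype.ext h)) h4 hS (hL (h1 (mem_sup_left hx)))
    (hL (h1 (mem_sup_right he))) (hL (h2 ⟨Γ.AC Γ.jA, mem_centralizer_singleton_iff.2 Γ.jc⟩)) ?_
  rintro _ ⟨k, rfl⟩
  exact hL (h2 ⟨(Γ.δ_mem_N k).1, mem_centralizer_singleton_iff.2 (Γ.δ_η k)⟩)

end St1

end CL.St3
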